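import Groth.Agent.CAlgUI.Flat
import Mathlib.RingTheory.Flat.FaithfullyFlat.Algebra
import Mathlib.RingTheory.RingHom.FaithfullyFlat
import Mathlib.RingTheory.RingHom.Finite
import Mathlib.RingTheory.Ideal.GoingUp
import Mathlib.RingTheory.QuasiFinite.Basic
import Mathlib.RingTheory.Spectrum.Prime.Topology

/-!
Algebra of a ring glued from `B` and `C` along a finite faithfully flat `C → B/I`.
-/

universe u

open TensorProduct

namespace Groth.Agent.BlowPO16

/-- A finite injective flat map is faithfully flat. -/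
theorem faithfullyFlat_of_finite {C C' : Type u} [CommRing C] [CommRing C'] [Algebra C C'] [Module.Finite C C']
    [Module.Flat C C'] (hinj : Function.Injective (algebraMap C C')) : Module.FaithfullyFlat C C' := by
  refine Module.FaithfullyFlat.of_comap_surjective fun P => ?_
  obtain ⟨Q, -, hQ, hQP⟩ := Ideal.exists_ideal_over_prime_of_isIntegral P.asIdeal (⊥ : Ideal C') (by
    intro x hx
    rw [Ideal.mem_comap, Ideal.mem_bot] at hx
    rw [(injective_iff_map_eq_zero _).1 hinj x hx]
    exact zero_mem _)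
  exact ⟨⟨Q, hQ⟩, PrimeSpectrum.ext hQP⟩

/-- The cokernel of a faithfully flat ring map is flat over any base over which the source is flat. -/
theorem flat_cokernel {A C C' : Type u} [CommRing A] [CommRing C] [CommRing C'] [Algebra A C] [Algebra C C']
    [Algebra A C'] [IsScalarTower A C C'] [Module.Flat A C] [Module.FaithfullyFlat C C'] :
    Module.Flat A (C' ⧸ LinearMap.range (Algebra.linearMap C C')) := by
  have : Module.Flat C (C' ⧸ LinearMap.range (Algebra.linearMap C C')) := by
    refine CAlgUI.flat_right_of_ui (f := Algebra.linearMap C C') (LinearMap.exact_map_mkQ_range _)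
      (Submodule.mkQ_surjective _) fun Q _ _ => ?_
    have e : (Algebra.linearMap C C').rTensor Q =
        (TensorProduct.mk C C' Q 1).comp (TensorProduct.lid C Q).toLinearMap := by
      ext q; simp
    rw [e, LinearMap.coe_comp]
    exact (Module.FaithfullyFlat.tensorProduct_mk_injective Q).comp (TensorProduct.lid C Q).injective
  exact Module.Flat.trans A C _

theorem image_pow {R B : Type u} [CommRing R] [CommRing B] (β : R →+* B) {J : Ideal R} {I : Ideal B}
    (h : β '' J = (I : Set B)) {n : ℕ} (hn : 1 ≤ n) : β '' ((J ^ n : Ideal R) : Set R) = ((I ^ n : Ideal B) : Set B) := by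
  induction n, hn using Nat.le_induction with
  | base => simpa using h
  | succ n _ ih =>
    refine Set.Subset.antisymm ?_ fun z hz => ?_
    · rintro _ ⟨x, hx, rfl⟩
      have h1 : J ≤ I.comap β := fun y hy => h.le ⟨y, hy, rfl⟩
      exact ((Ideal.pow_right_mono h1 (n + 1)).trans (Ideal.le_comap_pow β (n + 1))) hx
    · rw [SetLike.mem_coe, pow_succ] at hz
      refine Submodule.mul_induction_on hz (fun x hx i hi => ?_) ?_
      · obtain ⟨x', hx', rfl⟩ := ih.ge hx
        obtain ⟨i', hi', rfl⟩ := h.ge hi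
        exact ⟨x' * i', by rw [SetLike.mem_coe, pow_succ]; exact Ideal.mul_mem_mul hx' hi', map_mul _ _ _⟩
      · rintro _ _ ⟨u, hu, rfl⟩ ⟨v, hv, rfl⟩
        exact ⟨u + v, add_mem hu hv, map_add _ _ _⟩

/-- Flatness of the quotients of the glued ring. -/
theorem flat_quot_of_glued {A R B C C' : Type u} [CommRing A] [CommRing R] [CommRing B] [CommRing C] [CommRing C']
    [Algebra A R] [Algebra A B] [Algebra A C] [Algebra A C'] [Algebra C C'] [IsScalarTower A C C']
    (β : R →ₐ[A] B) (γ : R →ₐ[A] C) (q : B →ₐ[A] C') (hsq : ∀ r, q (β r) = algebraMap C C' (γ r))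
    (hγ : Function.Surjective γ) (hq : Function.Surjective q) (hβ : Function.Injective β)
    (hI : β '' (RingHom.ker γ : Set R) = (RingHom.ker q : Set B))
    (K' : Ideal R) (K : Ideal B) (hK : β '' (K' : Set R) = (K : Set B)) (hKq : ∀ x ∈ K, q x = 0)
    [Module.Flat A C] [Module.FaithfullyFlat C C'] [Module.Flat A (B ⧸ K)] : Module.Flat A (R ⧸ K') := by
  let f : (R ⧸ K') →ₐ[A] (B ⧸ K) := Ideal.quotientMapₐ K β fun x hx => hK.le ⟨x, hx, rfl⟩
  let g : (B ⧸ K) →ₗ[A] C' ⧸ LinearMap.range (Algebra.linearMap C C') :=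
    ((LinearMap.range (Algebra.linearMap C C')).mkQ.restrictScalars A).comp
      (Ideal.Quotient.liftₐ K q hKq).toLinearMap
  haveI : Module.Flat A (C' ⧸ LinearMap.range (Algebra.linearMap C C')) := flat_cokernel
  have hf : Function.Injective f.toLinearMap := by
    refine (injective_iff_map_eq_zero _).2 fun x hx => ?_
    obtain ⟨x, rfl⟩ := Ideal.Quotient.mk_surjective x
    obtain ⟨y, hy, e⟩ := hK.ge (Ideal.Quotient.eq_zero_iff_mem.1 hx : β x ∈ K)
    exact Ideal.Quotient.eq_zero_iff_mem.2 (hβ e ▸ hy)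
  have hg : Function.Surjective g := by
    intro z
    obtain ⟨c, rfl⟩ := Submodule.mkQ_surjective _ z
    obtain ⟨b, rfl⟩ := hq c
    exact ⟨Ideal.Quotient.mk K b, rfl⟩
  have hex : Function.Exact f.toLinearMap g := by
    intro z
    obtain ⟨b, rfl⟩ := Ideal.Quotient.mk_surjective z
    change (LinearMap.range (Algebra.linearMap C C')).mkQ (q b) = 0 ↔ _
    rw [Submodule.mkQ_apply, Submodule.Quotient.mk_eq_zero]
    constructor
    · rintro ⟨c, hc⟩
      obtain ⟨r, rfl⟩ := hγ c
      obtain ⟨j, hj, e⟩ := hI.ge (show b - β r ∈ RingHom.ker q by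
        rw [RingHom.mem_ker, map_sub, hsq, sub_eq_zero]; exact hc.symm)
      exact ⟨Ideal.Quotient.mk K' (r + j), by
        change Ideal.Quotient.mk K (β (r + j)) = _
        rw [map_add, e, add_sub_cancel]⟩
    · rintro ⟨x, hx⟩
      obtain ⟨r, rfl⟩ := Ideal.Quotient.mk_surjective x
      have h0 := hKq _ (Ideal.Quotient.eq.1 (hx : Ideal.Quotient.mk K (β r) = Ideal.Quotient.mk K b))
      rw [map_sub, sub_eq_zero] at h0
      exact ⟨γ r, (hsq r).symm.trans h0⟩
  exact CAlgUI.flat_left_of_ui (CAlgUI.ui_of_flat_quotient hf hex hg)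

/-- The glued ring makes `B` finite. -/
theorem finite_of_glued {R B C C' : Type u} [CommRing R] [CommRing B] [CommRing C] [CommRing C'] (β : R →+* B)
    (γ : R →+* C) (η : C →+* C') (q : B →+* C') (hsq : ∀ r, q (β r) = η (γ r))
    (hγ : Function.Surjective γ) (hq : Function.Surjective q) (hη : η.Finite)
    (hI : ∀ x ∈ RingHom.ker q, x ∈ Set.range β) : β.Finite := by
  classical
  letI := β.toAlgebra
  letI := η.toAlgebra
  haveI : Module.Finite C C' := hη
  obtain ⟨s, hs⟩ := Module.Finite.fg_top (R := C) (M := C')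
  choose l hl using hq
  refine ⟨⟨insert 1 (s.image l), eq_top_iff.2 fun b _ => ?_⟩⟩
  let N := Submodule.span R (↑(insert 1 (s.image l)) : Set B)
  change b ∈ N
  obtain ⟨w, hw, hwb⟩ : ∃ w ∈ N, q w = q b := by
    suffices ∀ y ∈ Submodule.span C (s : Set C'), ∃ w ∈ N, q w = y from
      this _ (hs.symm ▸ Submodule.mem_top)
    intro y hb
    induction hb using Submodule.span_induction with
    | mem x hx => exact ⟨l x, Submodule.subset_span (Finset.mem_coe.2 (Finset.mem_insert_of_mem (Finset.mem_image_of_mem l hx))), hl x⟩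
    | zero => exact ⟨0, zero_mem _, map_zero _⟩
    | add x y _ _ hx hy =>
      obtain ⟨u, hu, rfl⟩ := hx; obtain ⟨v, hv, rfl⟩ := hy
      exact ⟨u + v, add_mem hu hv, map_add _ _ _⟩
    | smul c x _ hx =>
      obtain ⟨u, hu, rfl⟩ := hx; obtain ⟨r, rfl⟩ := hγ c
      exact ⟨r • u, Submodule.smul_mem _ r hu, by
        rw [Algebra.smul_def, map_mul, RingHom.algebraMap_toAlgebra, hsq, Algebra.smul_def,
          RingHom.algebraMap_toAlgebra]⟩
  obtain ⟨r, hr⟩ := hI (b - w) (by rw [RingHom.mem_ker, map_sub, hwb, sub_self])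
  have hr1 : b - w ∈ N := by
    rw [← hr, ← RingHom.algebraMap_toAlgebra β, Algebra.algebraMap_eq_smul_one]
    exact Submodule.smul_mem _ r (Submodule.subset_span (Finset.mem_coe.2 (Finset.mem_insert_self _ _)))
  simpa using add_mem hr1 hw

end Groth.Agent.BlowPO16
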