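import Mathlib.RingTheory.QuasiFinite.Basic
import Mathlib.RingTheory.Ideal.GoingUp
import Mathlib.RingTheory.Spectrum.Prime.Topology

/-!
An invertible ideal is principal over a neighbourhood of a point in the base of a finite extension.
-/

universe u

namespace Groth.Agent.BlowPO16

/-- `x` generates `I` and is a nonzerodivisor after inverting `s`. -/
def GenAway {B : Type u} [CommRing B] (I : Ideal B) (s x : B) : Prop :=
  x ∈ I ∧ (∀ c, c * x = 0 → ∃ k : ℕ, s ^ k * c = 0) ∧ ∀ i ∈ I, ∃ (k : ℕ) (c : B), s ^ k * i = c * x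

theorem exists_gen_near {R B : Type u} [CommRing R] [CommRing B] [Algebra R B] [Module.Finite R B]
    (I : Ideal B) (hI : ∀ q : PrimeSpectrum B, ∃ s x, s ∉ q.asIdeal ∧ GenAway I s x) (p : Ideal R) [p.IsPrime] :
    ∃ r ∉ p, ∃ f, GenAway I (algebraMap R B r) f := by
  classical
  let P : PrimeSpectrum R := ⟨p, ‹_›⟩
  have hfin := Algebra.QuasiFinite.finite_comap_preimage_singleton (R := R) (S := B) P
  let F := hfin.toFinset
  have hF : ∀ q, q ∈ F ↔ q.asIdeal.comap (algebraMap R B) = p := fun q => by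
    simp [F, P, PrimeSpectrum.ext_iff]
  choose s x hs hx using hI
  have hsep : ∀ q ∈ F, ∃ e : B, e ∉ q.asIdeal ∧ ∀ q' ∈ F, q' ≠ q → e ∈ q'.asIdeal := by
    intro q hq
    have ht : ∀ q' ∈ F.erase q, ∃ t ∈ q'.asIdeal, t ∉ q.asIdeal := fun q' hq' => by
      obtain ⟨hne, hq'⟩ := Finset.mem_erase.1 hq'
      rw [← SetLike.not_le_iff_exists]
      intro hle
      exact (Ideal.IsIntegral.comap_lt_comap (R := R) (lt_of_le_of_ne hle fun h => hne (PrimeSpectrum.ext h))).ne
        (((hF q').1 hq').trans ((hF q).1 hq).symm)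
    choose! t ht hnt using ht
    refine ⟨∏ q' ∈ F.erase q, t q', fun h => ?_, fun q' hq' hne => ?_⟩
    · obtain ⟨q', hq', h'⟩ := (q.isPrime.prod_mem_iff).1 h
      exact hnt q' hq' h'
    · exact Ideal.mem_of_dvd _ (Finset.dvd_prod_of_mem t (Finset.mem_erase.2 ⟨hne, hq'⟩))
        (ht q' (Finset.mem_erase.2 ⟨hne, hq'⟩))
  choose! e he he' using hsep
  let f := ∑ q ∈ F, e q * x q
  have hfI : f ∈ I := Ideal.sum_mem _ fun q _ => I.mul_mem_left _ (hx q).1
  have hgood : ∀ q ∈ F, ∃ d ∉ q.asIdeal, GenAway I d f := by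
    intro q hq
    have h := fun q' => (hx q).2.2 (x q') (hx q').1
    choose k c hkc using h
    let K := F.sup k
    let d := s q ^ K * e q + ∑ q' ∈ F.erase q, e q' * (s q ^ (K - k q') * c q')
    have hdf : s q ^ K * f = d * x q := by
      simp only [f, d, ← Finset.add_sum_erase F (fun a => e a * x a) hq, mul_add, add_mul, Finset.sum_mul,
        Finset.mul_sum]
      refine congrArg₂ (· + ·) (by ring) (Finset.sum_congr rfl fun q' hq' => ?_)
      rw [show s q ^ K = s q ^ (K - k q') * s q ^ k q' by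
        rw [← pow_add, Nat.sub_add_cancel (Finset.le_sup (Finset.mem_of_mem_erase hq'))]]
      linear_combination e q' * s q ^ (K - k q') * hkc q'
    have hd : d ∉ q.asIdeal := fun h => by
      have h' : s q ^ K * e q ∈ q.asIdeal := by
        refine (Ideal.add_mem_iff_left _ (Ideal.sum_mem _ fun q' hq' => Ideal.mul_mem_right _ _ ?_)).1 h
        exact he' q' (Finset.mem_of_mem_erase hq') q hq (Finset.ne_of_mem_erase hq').symm
      exact (q.isPrime.mem_or_mem h').elim (fun h => hs q (q.isPrime.mem_of_pow_mem _ h)) (he q hq)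
    clear_value d
    clear_value f
    refine ⟨d * s q, fun h => (q.isPrime.mem_or_mem h).elim hd (hs q), hfI, fun z hz => ?_, fun i hi => ?_⟩
    · obtain ⟨m, hm⟩ := (hx q).2.1 (z * d) (by linear_combination s q ^ K * hz - z * hdf)
      exact ⟨m + 1, by linear_combination d ^ m * s q * hm⟩
    · obtain ⟨m, z, hz⟩ := (hx q).2.2 i hi
      refine ⟨m + 1, d ^ m * s q * (z * s q ^ K), ?_⟩
      linear_combination d ^ (m + 1) * s q * hz - d ^ m * s q * z * hdf
  choose! d hd hdf using hgood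
  let G : Set B := {b | GenAway I b f}
  have hclosed : IsClosed (PrimeSpectrum.comap (algebraMap R B) '' PrimeSpectrum.zeroLocus G) :=
    PrimeSpectrum.isClosedMap_comap_of_isIntegral _
      (algebraMap_isIntegral_iff.2 inferInstance) _ (PrimeSpectrum.isClosed_zeroLocus _)
  obtain ⟨J, hJ⟩ := (PrimeSpectrum.isClosed_iff_zeroLocus_ideal _).1 hclosed
  have hPJ : ¬ J ≤ p := fun h => by
    obtain ⟨q, hq, hqP⟩ : P ∈ PrimeSpectrum.comap (algebraMap R B) '' PrimeSpectrum.zeroLocus G := by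
      rw [hJ]; exact h
    have hqF : q ∈ F := (hF q).2 (congrArg PrimeSpectrum.asIdeal hqP)
    exact hd q hqF (hq (hdf q hqF))
  obtain ⟨r, hrJ, hr⟩ := SetLike.not_le_iff_exists.1 hPJ
  have hrad : algebraMap R B r ∈ (Ideal.span G).radical := by
    rw [Ideal.radical_eq_sInf, Submodule.mem_sInf]
    rintro q ⟨hGq, hqp⟩
    have : PrimeSpectrum.comap (algebraMap R B) ⟨q, hqp⟩ ∈ PrimeSpectrum.zeroLocus (J : Set R) := by
      rw [← hJ]
      exact ⟨⟨q, hqp⟩, (Ideal.span_le.1 hGq), rfl⟩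
    exact this hrJ
  obtain ⟨N, hN⟩ := hrad
  refine ⟨r, hr, f, hfI, fun z hz => ?_, fun i hi => ?_⟩
  · let A : Ideal B := LinearMap.ker (LinearMap.toSpanSingleton B B z)
    have hA : ∀ b, b ∈ A ↔ b * z = 0 := fun b => Iff.rfl
    have : G ⊆ (A.radical : Set B) := fun b hb => by
      obtain ⟨k, hk⟩ := hb.2.1 z hz
      exact ⟨k, (hA _).2 hk⟩
    obtain ⟨k, hk⟩ := Ideal.span_le.2 this hN
    exact ⟨N * k, by rw [pow_mul]; exact (hA _).1 hk⟩
  · let A : Ideal B := Submodule.comap (LinearMap.toSpanSingleton B B i) (Ideal.span {f})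
    have hA : ∀ b, b ∈ A ↔ b * i ∈ Ideal.span {f} := fun b => Iff.rfl
    have : G ⊆ (A.radical : Set B) := fun b hb => by
      obtain ⟨k, z, hk⟩ := hb.2.2 i hi
      exact ⟨k, (hA _).2 (Ideal.mem_span_singleton'.2 ⟨z, hk.symm⟩)⟩
    obtain ⟨k, hk⟩ := Ideal.span_le.2 this hN
    obtain ⟨z, hz⟩ := Ideal.mem_span_singleton'.1 ((hA _).1 hk)
    exact ⟨N * k, z, by rw [pow_mul]; exact hz.symm⟩

end Groth.Agent.BlowPO16
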