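import Groth.Agent.BlowPO16.Alg
import Groth.Agent.BlowPO16.Semilocal
import Groth.Agent.PinchPO7.ChartGlued
import Groth.Agent.PinchPO7.FlatInj
import Groth.Agent.BlowUpLib.Glue
import Groth.Agent.MeroX.BlowSpec
import Groth.Agent.FlatX.RelCartier
import Mathlib.AlgebraicGeometry.Morphisms.Finite

/-!
Gluing an effective Cartier divisor along a finite flat surjection: the blow-up.
-/

set_option maxHeartbeats 600000

universe u

open CategoryTheory CategoryTheory.Limits AlgebraicGeometry TopologicalSpace Opposite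

namespace Groth.Agent.BlowPO16

theorem appLE_congr {A B : Scheme.{u}} {f g : A ⟶ B} (e : f = g) (U : B.Opens) (V : A.Opens) (h₁ : V ≤ f ⁻¹ᵁ U)
    (h₂ : V ≤ g ⁻¹ᵁ U) : f.appLE U V h₁ = g.appLE U V h₂ := by
  subst e; rfl

theorem eff_flat_pow {X S : Scheme.{u}} (g : X ⟶ S) {I : X.IdealSheafData} (hI : BlowUp.IsEffCartierIdeal I)
    (hf : Flat (I.subschemeι ≫ g)) {n : ℕ} (hn : 1 ≤ n) :
    BlowUp.IsEffCartierIdeal (I ^ n) ∧ Flat ((I ^ n).subschemeι ≫ g) := by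
  induction n, hn using Nat.le_induction with
  | base => rw [pow_one]; exact ⟨hI, hf⟩
  | succ n _ ih => rw [pow_succ]; exact FlatX.flat_mul g ih.1 hI ih.2 hf

variable {S Xt Dt D X : Scheme.{u}} (ι : Dt ⟶ Xt) [IsClosedImmersion ι] (h : Dt ⟶ D) [IsFinite h] [Flat h]
  [Surjective h] (b : Xt ⟶ X) [IsAffineHom b] (j : D ⟶ X) [IsClosedImmersion j] (hP : IsPushout ι h b j)

include hP

theorem le_hpre (U : X.Opens) : ι ⁻¹ᵁ b ⁻¹ᵁ U ≤ h ⁻¹ᵁ j ⁻¹ᵁ U := by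
  rw [← Scheme.Hom.comp_preimage, ← Scheme.Hom.comp_preimage, hP.w]

/-- The finite flat map on sections. -/
noncomputable def η (U : X.Opens) : Γ(D, j ⁻¹ᵁ U) →+* Γ(Dt, ι ⁻¹ᵁ b ⁻¹ᵁ U) :=
  (h.appLE (j ⁻¹ᵁ U) (ι ⁻¹ᵁ b ⁻¹ᵁ U) (le_hpre ι h b j hP U)).hom

theorem sq (U : X.Opens) (r : Γ(X, U)) :
    ι.app (b ⁻¹ᵁ U) (b.app U r) = η ι h b j hP U (j.app U r) := by
  rw [η, Scheme.Hom.app_eq_appLE, Scheme.Hom.app_eq_appLE, Scheme.Hom.app_eq_appLE,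
    ← CommRingCat.comp_apply, ← CommRingCat.comp_apply, Scheme.Hom.appLE_comp_appLE, Scheme.Hom.appLE_comp_appLE]
  exact ConcreteCategory.congr_hom (appLE_congr hP.w U _ _ _) r

theorem η_injective (U : X.Opens) : Function.Injective (η ι h b j hP U) := by
  have e : h ⁻¹ᵁ j ⁻¹ᵁ U = ι ⁻¹ᵁ b ⁻¹ᵁ U := by
    rw [← Scheme.Hom.comp_preimage, ← Scheme.Hom.comp_preimage, hP.w]
  change Function.Injective (h.app (j ⁻¹ᵁ U) ≫ Dt.presheaf.map (homOfLE (le_hpre ι h b j hP U)).op)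
  rw [show (homOfLE (le_hpre ι h b j hP U)).op = (eqToHom e.symm).op from rfl]
  exact ((ConcreteCategory.bijective_of_isIso (Dt.presheaf.map (eqToHom e.symm).op)).1).comp
    (PinchPO7.app_injective h (j ⁻¹ᵁ U))

variable {U : X.Opens} (hU : IsAffineOpen U)
include hU

theorem surj_ι : Function.Surjective (ι.app (b ⁻¹ᵁ U)) := ι.app_surjective _ (hU.preimage b)

theorem surj_j : Function.Surjective (j.app U) := j.app_surjective _ hU

theorem η_finite : (η ι h b j hP U).Finite := by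
  have e : h ⁻¹ᵁ j ⁻¹ᵁ U = ι ⁻¹ᵁ b ⁻¹ᵁ U := by
    rw [← Scheme.Hom.comp_preimage, ← Scheme.Hom.comp_preimage, hP.w]
  haveI : IsIso (Dt.presheaf.map (homOfLE (le_hpre ι h b j hP U)).op) :=
    inferInstanceAs (IsIso (Dt.presheaf.map (eqToHom e.symm).op))
  rw [η, Scheme.Hom.appLE, CommRingCat.hom_comp]
  exact RingHom.finite_respectsIso.1 _
    (asIso (Dt.presheaf.map (homOfLE (le_hpre ι h b j hP U)).op)).commRingCatIsoToRingEquiv
    (IsFinite.finite_app (f := h) _ (hU.preimage j))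

theorem η_flat : (η ι h b j hP U).Flat :=
  HasRingHomProperty.appLE @Flat h inferInstance ⟨_, hU.preimage j⟩ ⟨_, (hU.preimage b).preimage ι⟩ _

theorem glued : PinchPO7.IsGluedSquare ι h b j :=
  PinchPO7.isGluedSquare_of_pushout hP (RingPO.chart_of_affineHom hP.w)

theorem app_injective : Function.Injective (b.app U) := by
  intro r r' e
  refine (glued ι h b j hP hU).sec_ext U r r' e (η_injective ι h b j hP U ?_)
  rw [← sq ι h b j hP U, ← sq ι h b j hP U, e]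

theorem image_ker : b.app U '' (RingHom.ker (j.app U).hom : Set Γ(X, U)) =
    (RingHom.ker (ι.app (b ⁻¹ᵁ U)).hom : Set Γ(Xt, b ⁻¹ᵁ U)) := by
  refine Set.Subset.antisymm ?_ fun x hx => ?_
  · rintro _ ⟨r, hr, rfl⟩
    change ι.app (b ⁻¹ᵁ U) (b.app U r) = 0
    rw [sq ι h b j hP U r, show j.app U r = 0 from hr, map_zero]
  · obtain ⟨r, hr, hr'⟩ := (glued ι h b j hP hU).sec_glue U x 0 (le_hpre ι h b j hP U) (by
      rw [map_zero, ← Scheme.Hom.app_eq_appLE]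
      exact hx)
    exact ⟨r, hr', hr⟩

theorem finite_app : (b.app U).hom.Finite :=
  finite_of_glued (b.app U).hom (j.app U).hom (η ι h b j hP U) (ι.app (b ⁻¹ᵁ U)).hom (sq ι h b j hP U)
    (surj_j ι h b j hP hU) (surj_ι ι h b j hP hU) (η_finite ι h b j hP hU) fun x hx => by
      obtain ⟨r, -, hr⟩ := (image_ker ι h b j hP hU).ge hx
      exact ⟨r, hr⟩

theorem image_ideal : b.app U '' (j.ker.ideal ⟨U, hU⟩ : Set Γ(X, U)) =
    (ι.ker.ideal ⟨b ⁻¹ᵁ U, hU.preimage b⟩ : Set Γ(Xt, b ⁻¹ᵁ U)) := by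
  rw [j.ker_apply, ι.ker_apply]
  exact image_ker ι h b j hP hU

theorem map_ideal : (j.ker.ideal ⟨U, hU⟩).map (b.app U).hom = ι.ker.ideal ⟨b ⁻¹ᵁ U, hU.preimage b⟩ :=
  le_antisymm (Ideal.map_le_iff_le_comap.2 fun r hr => (image_ideal ι h b j hP hU).le ⟨r, hr, rfl⟩) fun x hx => by
    obtain ⟨r, hr, rfl⟩ := (image_ideal ι h b j hP hU).ge hx
    exact Ideal.mem_map_of_mem _ hr

omit hU in
theorem comap_ker : j.ker.comap b = ι.ker := by
  refine Scheme.IdealSheafData.ext_of_iSup_eq_top (fun U : X.affineOpens => ⟨b ⁻¹ᵁ U.1, U.2.preimage b⟩) ?_ fun U => ?_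
  · rw [← Scheme.Hom.preimage_iSup, iSup_affineOpens_eq_top, Scheme.Hom.preimage_top]
  · rw [ModPairLib.ideal_comap j.ker b U ⟨b ⁻¹ᵁ U.1, U.2.preimage b⟩ le_rfl, Scheme.Hom.appLE_eq_app]
    exact map_ideal ι h b j hP U.2

omit hU in
theorem flat_pow (hι : BlowUp.IsEffCartierIdeal ι.ker) (sX : X ⟶ S) [Flat (j ≫ sX)] [Flat (ι ≫ b ≫ sX)]
    {n : ℕ} (hn : 1 ≤ n) : Flat ((j.ker ^ n).subschemeι ≫ sX) := by
  have h1 : Flat (ι.ker.subschemeι ≫ b ≫ sX) := by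
    have e : inv ι.toImage ≫ ι ≫ b ≫ sX = ι.ker.subschemeι ≫ b ≫ sX := by
      rw [IsIso.inv_comp_eq]
      exact (ι.toImage_imageι_assoc _).symm
    rw [← e]; infer_instance
  refine FlatX.flat_subscheme_of_charts sX _ fun x => ?_
  obtain ⟨W, hxW⟩ := FlatX.exists_chart sX x
  obtain ⟨U, hU, hxU, hUW⟩ := exists_isAffineOpen_mem_and_subset (x := x) (U := sX ⁻¹ᵁ W.1) hxW
  refine ⟨W, ⟨U, hU⟩, hUW, hxU, ?_⟩
  have eV : b ⁻¹ᵁ U ≤ (b ≫ sX) ⁻¹ᵁ W.1 := fun y hy => hUW hy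
  have h2 := FlatX.flat_quotApp (b ≫ sX) (ι.ker ^ n) (eff_flat_pow (b ≫ sX) hι h1 hn).2 W
    ⟨b ⁻¹ᵁ U, hU.preimage b⟩ eV
  have h3 : (((sX.appLE W.1 U hUW) ≫ j.app U).hom).Flat := by
    rw [Scheme.Hom.app_eq_appLE, Scheme.Hom.appLE_comp_appLE]
    exact HasRingHomProperty.appLE @Flat (j ≫ sX) inferInstance W ⟨_, hU.preimage j⟩ _
  letI := (sX.appLE W.1 U hUW).hom.toAlgebra
  letI : Algebra Γ(S, W.1) Γ(Xt, b ⁻¹ᵁ U) := ((b ≫ sX).appLE W.1 (b ⁻¹ᵁ U) eV).hom.toAlgebra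
  letI : Algebra Γ(S, W.1) Γ(D, j ⁻¹ᵁ U) := ((sX.appLE W.1 U hUW) ≫ j.app U).hom.toAlgebra
  letI : Algebra Γ(D, j ⁻¹ᵁ U) Γ(Dt, ι ⁻¹ᵁ b ⁻¹ᵁ U) := (η ι h b j hP U).toAlgebra
  letI : Algebra Γ(S, W.1) Γ(Dt, ι ⁻¹ᵁ b ⁻¹ᵁ U) :=
    ((η ι h b j hP U).comp ((sX.appLE W.1 U hUW) ≫ j.app U).hom).toAlgebra
  haveI : IsScalarTower Γ(S, W.1) Γ(D, j ⁻¹ᵁ U) Γ(Dt, ι ⁻¹ᵁ b ⁻¹ᵁ U) := IsScalarTower.of_algebraMap_eq fun _ => rfl
  haveI : Module.Flat Γ(S, W.1) Γ(D, j ⁻¹ᵁ U) := RingHom.flat_algebraMap_iff.mp h3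
  haveI : Module.Flat Γ(D, j ⁻¹ᵁ U) Γ(Dt, ι ⁻¹ᵁ b ⁻¹ᵁ U) := RingHom.flat_algebraMap_iff.mp (η_flat ι h b j hP hU)
  haveI : Module.Finite Γ(D, j ⁻¹ᵁ U) Γ(Dt, ι ⁻¹ᵁ b ⁻¹ᵁ U) := η_finite ι h b j hP hU
  haveI : Module.FaithfullyFlat Γ(D, j ⁻¹ᵁ U) Γ(Dt, ι ⁻¹ᵁ b ⁻¹ᵁ U) := faithfullyFlat_of_finite (η_injective ι h b j hP U)
  let β : Γ(X, U) →ₐ[Γ(S, W.1)] Γ(Xt, b ⁻¹ᵁ U) :=
    { (b.app U).hom with
      commutes' := fun a => ConcreteCategory.congr_hom (show sX.appLE W.1 U hUW ≫ b.app U =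
          (b ≫ sX).appLE W.1 (b ⁻¹ᵁ U) eV by rw [Scheme.Hom.app_eq_appLE, Scheme.Hom.appLE_comp_appLE]) a }
  let γ : Γ(X, U) →ₐ[Γ(S, W.1)] Γ(D, j ⁻¹ᵁ U) := { (j.app U).hom with commutes' := fun _ => rfl }
  let q : Γ(Xt, b ⁻¹ᵁ U) →ₐ[Γ(S, W.1)] Γ(Dt, ι ⁻¹ᵁ b ⁻¹ᵁ U) :=
    { (ι.app (b ⁻¹ᵁ U)).hom with
      commutes' := fun a => by
        refine (congrArg (ι.app (b ⁻¹ᵁ U)) (β.commutes a).symm).trans ?_
        exact sq ι h b j hP U _ }
  haveI : Module.Flat Γ(S, W.1) (Γ(Xt, b ⁻¹ᵁ U) ⧸ (ι.ker.ideal ⟨b ⁻¹ᵁ U, hU.preimage b⟩) ^ n) :=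
    RingHom.flat_algebraMap_iff.mp
      (FlatX.flat_congr _ (by rw [Scheme.IdealSheafData.ideal_pow, Pi.pow_apply]) h2)
  refine FlatX.flat_congr _ (show (j.ker.ideal ⟨U, hU⟩) ^ n = (j.ker ^ n).ideal ⟨U, hU⟩ by
    rw [Scheme.IdealSheafData.ideal_pow, Pi.pow_apply]) (RingHom.flat_algebraMap_iff.mpr ?_)
  refine flat_quot_of_glued β γ q (sq ι h b j hP U) (surj_j ι h b j hP hU) (surj_ι ι h b j hP hU)
    (app_injective ι h b j hP hU) (image_ker ι h b j hP hU) _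
    ((ι.ker.ideal ⟨b ⁻¹ᵁ U, hU.preimage b⟩) ^ n)
    (image_pow (b.app U).hom (image_ideal ι h b j hP hU) hn) fun x hx => ?_
  have := Ideal.pow_le_self (Nat.one_le_iff_ne_zero.mp hn) hx
  rw [ι.ker_apply] at this
  exact this

theorem exists_principal (hι : BlowUp.IsEffCartierIdeal ι.ker) {x : X} (hx : x ∈ U) :
    ∃ r : Γ(X, U), x ∈ X.basicOpen r ∧ ∃ f ∈ nonZeroDivisors Γ(Xt, Xt.basicOpen (b.app U r)),
      ι.ker.ideal (Xt.affineBasicOpen (U := ⟨b ⁻¹ᵁ U, hU.preimage b⟩) (b.app U r)) = Ideal.span {f} := by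
  let V : Xt.affineOpens := ⟨b ⁻¹ᵁ U, hU.preimage b⟩
  letI := (b.app U).hom.toAlgebra
  haveI : Module.Finite Γ(X, U) Γ(Xt, b ⁻¹ᵁ U) := finite_app ι h b j hP hU
  have hgen : ∀ q : PrimeSpectrum Γ(Xt, b ⁻¹ᵁ U), ∃ s a, s ∉ q.asIdeal ∧ GenAway (ι.ker.ideal V) s a := by
    intro q
    let y : Xt := V.2.fromSpec q
    have hy : y ∈ V.1 := by
      rw [← SetLike.mem_coe, ← V.2.range_fromSpec]; exact ⟨q, rfl⟩
    obtain ⟨W, hyW, hWV, hW⟩ := FlatX.exists_locGen hι hy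
    obtain ⟨g, g', e, hyg⟩ := exists_basicOpen_le_affine_inter V.2 W.2 y ⟨hy, hyW⟩
    have hg : FlatX.LocGen ι.ker (Xt.affineBasicOpen g) := by
      have : Xt.affineBasicOpen g = Xt.affineBasicOpen g' := Subtype.ext e
      exact this ▸ FlatX.LocGen.basicOpen hW g'
    obtain ⟨a, ha, hIa⟩ : ∃ a : Γ(Xt, Xt.basicOpen g), a ∈ nonZeroDivisors Γ(Xt, Xt.basicOpen g) ∧
        ι.ker.ideal (Xt.affineBasicOpen g) = Ideal.span {a} := hg
    haveI : IsLocalization.Away g Γ(Xt, Xt.basicOpen g) := V.2.isLocalization_basicOpen g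
    let L : Γ(Xt, V.1) →+* Γ(Xt, Xt.basicOpen g) := algebraMap Γ(Xt, V.1) Γ(Xt, Xt.basicOpen g)
    have hmap : (ι.ker.ideal V).map L = Ideal.span {a} :=
      (ι.ker.map_ideal_basicOpen V g).trans hIa
    obtain ⟨⟨c, ⟨_, k, rfl⟩⟩, hc⟩ := IsLocalization.surj (Submonoid.powers g) a
    have hcI : L c ∈ (ι.ker.ideal V).map L := by
      rw [hmap]
      exact hc ▸ Ideal.mul_mem_right _ _ (Ideal.mem_span_singleton_self a)
    obtain ⟨⟨⟨c', hc'⟩, ⟨_, m, rfl⟩⟩, hm⟩ :=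
      (IsLocalization.mem_map_algebraMap_iff (Submonoid.powers g) _).1 hcI
    have hu : IsUnit (L (g ^ m)) := IsLocalization.map_units (M := Submonoid.powers g) Γ(Xt, Xt.basicOpen g) ⟨g ^ m, m, rfl⟩
    have hv : IsUnit (L (g ^ k)) := IsLocalization.map_units (M := Submonoid.powers g) Γ(Xt, Xt.basicOpen g) ⟨g ^ k, k, rfl⟩
    have hca : L c' = a * (L (g ^ k) * L (g ^ m)) := by
      rw [← mul_assoc]; exact hm.symm.trans (by rw [hc])
    refine ⟨g, c', fun hgq => ?_, hc', fun z hz => ?_, fun i hi => ?_⟩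
    · have : q ∈ PrimeSpectrum.basicOpen g := by
        rw [← V.2.fromSpec_preimage_basicOpen]; exact hyg
      exact this hgq
    · have h0 : L z = 0 := by
        have := congrArg L hz
        rw [map_mul, hca, map_zero, ← mul_assoc, (hv.mul hu).mul_left_eq_zero] at this
        exact (mem_nonZeroDivisors_iff_right.mp ha) _ this
      obtain ⟨⟨_, k', rfl⟩, hk'⟩ := (IsLocalization.map_eq_zero_iff (Submonoid.powers g) _ z).1 h0
      exact ⟨k', hk'⟩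
    · obtain ⟨w, hw⟩ := Ideal.mem_span_singleton'.1 (hmap.le (Ideal.mem_map_of_mem L hi))
      obtain ⟨w', hw'⟩ := (hv.mul hu).exists_left_inv
      obtain ⟨⟨d, ⟨_, k', rfl⟩⟩, hd⟩ := IsLocalization.surj (Submonoid.powers g) (w * w')
      have : L (g ^ k' * i) = L (d * c') := by
        rw [map_mul, map_mul, hca, ← hw, ← show w * w' * L (g ^ k') = L d from hd]
        linear_combination -(L (g ^ k') * w * a) * hw'
      obtain ⟨⟨_, k'', rfl⟩, hk''⟩ := IsLocalization.exists_of_eq (M := Submonoid.powers g) this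
      exact ⟨k'' + k', g ^ k'' * d, by rw [pow_add, mul_assoc, mul_assoc]; exact hk''⟩
  obtain ⟨r, hr, f, hfI, hf0, hfgen⟩ := exists_gen_near (ι.ker.ideal V) hgen (hU.primeIdealOf ⟨x, hx⟩).asIdeal
  refine ⟨r, ?_, ?_⟩
  · have : (hU.primeIdealOf ⟨x, hx⟩) ∈ hU.fromSpec ⁻¹ᵁ X.basicOpen r := by
      rw [hU.fromSpec_preimage_basicOpen]; exact hr
    have h2 : hU.fromSpec (hU.primeIdealOf ⟨x, hx⟩) ∈ X.basicOpen r := this
    rwa [hU.fromSpec_primeIdealOf ⟨x, hx⟩] at h2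
  haveI : IsLocalization.Away (b.app U r) Γ(Xt, Xt.basicOpen (b.app U r)) := V.2.isLocalization_basicOpen (b.app U r)
  let L : Γ(Xt, V.1) →+* Γ(Xt, Xt.basicOpen (b.app U r)) := algebraMap Γ(Xt, V.1) Γ(Xt, Xt.basicOpen (b.app U r))
  refine ⟨L f, mem_nonZeroDivisors_iff_right.mpr fun z hz => ?_, ?_⟩
  · obtain ⟨⟨c, ⟨_, k, rfl⟩⟩, hc⟩ := IsLocalization.surj (Submonoid.powers (b.app U r)) z
    have h0 : L (c * f) = 0 := by
      rw [map_mul, ← show z * L (b.app U r ^ k) = L c from hc, mul_right_comm, hz, zero_mul]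
    obtain ⟨⟨_, k', rfl⟩, hk'⟩ := (IsLocalization.map_eq_zero_iff (Submonoid.powers (b.app U r)) _ _).1 h0
    obtain ⟨k'', hk''⟩ := hf0 _ (by rw [mul_assoc]; exact hk')
    have hz0 : L c = 0 := (IsLocalization.map_eq_zero_iff (Submonoid.powers (b.app U r)) _ _).2
      ⟨⟨_, k'' + k', rfl⟩, by dsimp only; rw [pow_add, mul_assoc]; exact hk''⟩
    exact (IsLocalization.map_units (M := Submonoid.powers (b.app U r)) Γ(Xt, Xt.basicOpen (b.app U r)) ⟨b.app U r ^ k, k, rfl⟩ : IsUnit (L (b.app U r ^ k))).mul_left_eq_zero.1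
      (hc.trans hz0)
  · refine (ι.ker.map_ideal_basicOpen V (b.app U r)).symm.trans ?_
    change (ι.ker.ideal V).map L = _
    refine le_antisymm (Ideal.map_le_iff_le_comap.2 fun i hi => ?_)
      ((Ideal.span_singleton_le_iff_mem _).2 (Ideal.mem_map_of_mem L hfI))
    obtain ⟨k, c, hc⟩ := hfgen i hi
    rw [Ideal.mem_comap, ← Ideal.unit_mul_mem_iff_mem _
      (IsLocalization.map_units (M := Submonoid.powers (b.app U r)) Γ(Xt, Xt.basicOpen (b.app U r)) ⟨b.app U r ^ k, k, rfl⟩ : IsUnit (L (b.app U r ^ k))), ← map_mul]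
    rw [show b.app U r ^ k * i = c * f from hc, map_mul]
    exact Ideal.mul_mem_left _ _ (Ideal.mem_span_singleton_self _)

omit hU in
theorem isBlowUp (hι : BlowUp.IsEffCartierIdeal ι.ker) : BlowUp.IsBlowUp b j.ker := by
  choose U hU hxU hle using fun x : X => exists_isAffineOpen_mem_and_subset (X := X) (x := x) (U := ⊤) trivial
  choose r hxr f hf hfe using fun x => exists_principal ι h b j hP (hU x) hι (hxU x)
  have hU' : ∀ x, IsAffineOpen (X.basicOpen (r x)) := fun x => (hU x).basicOpen _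
  haveI := fun x => (hU' x).isOpenImmersion_fromSpec
  refine BlowUpLib.isBlowUp_of_local (fun x => (hU' x).fromSpec) (fun x => ?_)
    (fun x => Spec.map (b.app (X.basicOpen (r x)))) (fun x => ((hU' x).preimage b).fromSpec) (fun x => ?_) (fun x => ?_)
  · obtain ⟨v, hv⟩ := (hU' x).range_fromSpec.ge (hxr x)
    exact ⟨x, v, hv⟩
  · refine IsOpenImmersion.isPullback _ _ _ _ ?_ ?_
    · rw [← IsAffineOpen.SpecMap_appLE_fromSpec b (hU' x) ((hU' x).preimage b) le_rfl, Scheme.Hom.appLE_eq_app]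
    · rw [IsAffineOpen.opensRange_fromSpec, IsAffineOpen.opensRange_fromSpec]
  · rw [show j.ker.comap (hU' x).fromSpec = _ from BlowUpLib.comap_fromSpec j.ker ⟨_, hU' x⟩]
    letI := (b.app (X.basicOpen (r x))).hom.toAlgebra
    have key : ∀ (O : Xt.affineOpens), O = Xt.affineBasicOpen (U := ⟨b ⁻¹ᵁ U x, (hU x).preimage b⟩) (b.app (U x) (r x)) →
        FlatX.LocGen ι.ker O := by rintro _ rfl; exact ⟨f x, hf x, hfe x⟩
    obtain ⟨a, ha, hIa⟩ := key ⟨b ⁻¹ᵁ X.basicOpen (r x), (hU' x).preimage b⟩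
      (Subtype.ext (Scheme.preimage_basicOpen b (r x)))
    refine MeroX.isBlowUp_Spec Γ(X, X.basicOpen (r x)) Γ(Xt, b ⁻¹ᵁ X.basicOpen (r x))
      (app_injective ι h b j hP (hU' x)) (j.ker.ideal ⟨_, hU' x⟩) ?_ a ha ((map_ideal ι h b j hP (hU' x)).trans hIa)
    refine Eq.le (Eq.trans ?_ (image_ideal ι h b j hP (hU' x)).symm)
    exact congrArg SetLike.coe (map_ideal ι h b j hP (hU' x))

end Groth.Agent.BlowPO16
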